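import Groth.Prelude.Def_Red
import Groth.Agent.S0593

/-!
# Affineness descends along a finite field extension

(AFFD) of the plan for S17691 (`K491.Plan2.isAffine_of_bc`).
-/

set_option autoImplicit false
universe u

open CategoryTheory CategoryTheory.Limits AlgebraicGeometry MonObj MonoidalCategory CartesianMonoidalCategory

namespace K351.AffFieldDesc

/-- The map `Spec E ⟶ Spec K` of a finite field extension is finite. -/
theorem isFinite_specMap (K E : Type u) [Field K] [Field E] [Algebra K E] [FiniteDimensional K E] :
    IsFinite (Spec.map (CommRingCat.ofHom (algebraMap K E))) := by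
  rw [IsFinite.SpecMap_iff]
  exact RingHom.finite_algebraMap.mpr inferInstance

/-- The map `Spec E ⟶ Spec K` of a field extension is surjective. -/
theorem surjective_specMap (K E : Type u) [Field K] [Field E] [Algebra K E] :
    Surjective (Spec.map (CommRingCat.ofHom (algebraMap K E))) := by
  refine ⟨fun x => ⟨IsLocalRing.closedPoint E, ?_⟩⟩
  exact Subsingleton.elim (α := PrimeSpectrum K) _ _

/-- (AFFD) affineness descends along a finite field extension (Chevalley). -/
theorem isAffine_of_bc (K E : Type u) [Field K] [Field E] [Algebra K E] [FiniteDimensional K E]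
    (S : Over (Spec (CommRingCat.of K))) [LocallyOfFiniteType S.hom] [QuasiCompact S.hom] [IsSeparated S.hom]
    (h : IsAffine (Red.bc (Spec.map (CommRingCat.ofHom (algebraMap K E))) S).left) : IsAffine S.left := by
  have := isFinite_specMap K E
  have := surjective_specMap K E
  let q : (Red.bc (Spec.map (CommRingCat.ofHom (algebraMap K E))) S).left ⟶ S.left :=
    pullback.fst S.hom (Spec.map (CommRingCat.ofHom (algebraMap K E)))
  have h1 : IsFinite q := by dsimp [q]; infer_instance
  have h2 : Surjective q := by dsimp [q]; infer_instance
  have h3 : CompactSpace S.left := QuasiCompact.compactSpace_of_compactSpace S.hom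
  have h4 : QuasiSeparatedSpace S.left := quasiSeparatedSpace_of_quasiSeparated S.hom
  exact Groth.Agent.S0593.isAffine_of_isFinite q

end K351.AffFieldDesc
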